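import Groth.Agent.PointwiseInjDim.Torsion

/-!
Iterated cones of multiplication maps on `A`.
-/

set_option autoImplicit false

universe u

open CategoryTheory CategoryTheory.Limits CategoryTheory.Pretriangulated DerivedCategory

attribute [local instance] HasDerivedCategory.standard

namespace Groth.PointwiseInjDim

open Groth.DualCore

variable {A : Type u} [CommRing A] [IsNoetherianRing A] {R : Dual.D A}

lemma subsingleton_shift_one (X : Dual.D A) (i : ℤ) [Subsingleton (X ⟶ R⟦i - 1⟧)] :
    Subsingleton (X⟦(1 : ℤ)⟧ ⟶ R⟦i⟧) := by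
  refine ⟨fun u v => ?_⟩
  let e := (shiftFunctorAdd' (Dual.D A) (i - 1) 1 i (by lia)).app R
  obtain ⟨u', hu⟩ := (shiftFunctor (Dual.D A) (1 : ℤ)).map_surjective (u ≫ e.hom)
  obtain ⟨v', hv⟩ := (shiftFunctor (Dual.D A) (1 : ℤ)).map_surjective (v ≫ e.hom)
  rw [← cancel_mono e.hom, ← hu, ← hv, Subsingleton.elim u' v']

/-- A perfect object whose top cohomology is `A/(s)`, killed by powers of the elements of `s`. -/
theorem exists_koszul (hR : ∃ b : ℤ, ∀ i, b < i → Subsingleton (Dual.HD A R i)) (s : Finset A) :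
    ∃ (X : Dual.D A) (a : ℤ), Van R X ∧ IsGE X a ∧ IsLE X 0 ∧
      (∀ n, Module.Finite A (Dual.HD A X n)) ∧ (∀ y ∈ s, ∃ e : ℕ, y ^ e • 𝟙 X = 0) ∧
      ∃ u₀ : Dual.inD A A ⟶ X, (∀ v, ∃ c : A, c • u₀ = v) ∧
        ∀ c : A, c • u₀ = 0 ↔ c ∈ Ideal.span (s : Set A) := by
  classical
  induction s using Finset.induction with
  | empty =>
    obtain ⟨b, hb⟩ := hR
    refine ⟨Dual.inD A A, 0, ⟨b, fun i hi => ?_⟩, inferInstance, inferInstance,
      fun n => finite_HD_inD A n, fun y hy => absurd hy (Finset.notMem_empty y), 𝟙 _, fun v => ?_,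
      fun c => ?_⟩
    · haveI := hb i hi
      exact (homAEquiv R i).toEquiv.subsingleton
    · obtain ⟨f, rfl⟩ := (singleFunctor (ModuleCat.{u} A) 0).map_surjective v
      refine ⟨f.hom 1, ?_⟩
      rw [← inDmap_id, ← inDmap_smul, inDmap]
      congr 1
      apply ModuleCat.hom_ext
      apply LinearMap.ext_ring
      show f.hom 1 * 1 = f.hom 1
      rw [mul_one]
    · rw [Finset.coe_empty, Ideal.span_empty, Ideal.mem_bot]
      refine ⟨fun h => ?_, fun h => by rw [h, zero_smul]⟩
      have h' : inDmap (c • LinearMap.id : A →ₗ[A] A) = inDmap (0 : A →ₗ[A] A) := by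
        rw [inDmap_smul, inDmap_id, inDmap_zero, h]
      have := LinearMap.congr_fun (congrArg ModuleCat.Hom.hom
        ((singleFunctor (ModuleCat.{u} A) 0).map_injective h')) (1 : A)
      simpa using this
  | insert x s hx ih =>
    obtain ⟨X, a, ⟨N, hN⟩, hge, hle, hfin, hkill, u₀, hu₁, hu₂⟩ := ih
    obtain ⟨C, v, w, hT⟩ := distinguished_cocone_triangle (x • 𝟙 X)
    let T := Triangle.mk (x • 𝟙 X) v w
    have hT' : T.rotate ∈ distTriang (Dual.D A) := rot_of_distTriang _ hT
    have hge' : IsGE C (a - 1) := by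
      rw [isGE_iff]
      intro i hi
      exact (HomologySequence.exact₃ T hT i (i + 1) rfl).isZero_X₂
        ((isZero_of_isGE X a i (by lia)).eq_of_src _ _)
        ((isZero_of_isGE X a (i + 1) (by lia)).eq_of_tgt _ _)
    have hle' : IsLE C 0 := by
      rw [isLE_iff]
      intro i hi
      exact (HomologySequence.exact₃ T hT i (i + 1) rfl).isZero_X₂
        ((isZero_of_isLE X 0 i hi).eq_of_src _ _)
        ((isZero_of_isLE X 0 (i + 1) (by lia)).eq_of_tgt _ _)
    have hkillStep : ∀ (y : A) (p q : ℕ), y ^ p • v = 0 → y ^ q • w = 0 →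
        y ^ (q + p) • 𝟙 C = 0 := fun y p q hp hq => by
      obtain ⟨g, hg⟩ := Triangle.yoneda_exact₃ T hT (y ^ p • 𝟙 C) (by
        show v ≫ (y ^ p • 𝟙 C) = 0
        rw [Linear.comp_smul, Category.comp_id, hp])
      have hg' : y ^ p • 𝟙 C = w ≫ g := hg
      rw [pow_add, mul_smul, hg', ← Linear.smul_comp, hq, zero_comp]
    have hcomp : ∀ y : A, y • v = (y • 𝟙 X) ≫ v := fun y => by
      rw [Linear.smul_comp, Category.id_comp]
    have hw : ∀ y : A, y • w = w ≫ (y • 𝟙 X)⟦(1 : ℤ)⟧' := fun y => by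
      rw [Functor.map_smul, CategoryTheory.Functor.map_id, Linear.comp_smul]
      erw [Category.comp_id]
    refine ⟨C, a - 1, ⟨N + 1, fun i hi => ?_⟩, hge', hle', fun n => ?_, fun y hy => ?_, u₀ ≫ v,
      fun t => ?_, fun c => ?_⟩
    · haveI := hN i (by lia)
      haveI := hN (i - 1) (by lia)
      haveI : Subsingleton (T.rotate.obj₁ ⟶ R⟦i⟧) := ‹Subsingleton (X ⟶ R⟦i⟧)›
      haveI : Subsingleton (T.rotate.obj₃ ⟶ R⟦i⟧) := subsingleton_shift_one X i
      exact subsingleton_hom_of_triangle T.rotate hT' R i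
    · haveI := hfin n
      haveI := hfin (n + 1)
      haveI : IsNoetherian A (Dual.HD A X n) := isNoetherian_of_isNoetherianRing_of_finite A _
      haveI : IsNoetherian A (Dual.HD A X (n + 1)) :=
        isNoetherian_of_isNoetherianRing_of_finite A _
      have hex := (ShortComplex.moduleCat_exact_iff_range_eq_ker _).1
        (HomologySequence.exact₃ T hT n (n + 1) rfl)
      haveI : IsNoetherian A ((homologyFunctor (ModuleCat.{u} A) n).obj T.obj₂) :=
        inferInstanceAs (IsNoetherian A (Dual.HD A X n))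
      haveI : IsNoetherian A ((homologyFunctor (ModuleCat.{u} A) (n + 1)).obj T.obj₁) :=
        inferInstanceAs (IsNoetherian A (Dual.HD A X (n + 1)))
      haveI : IsNoetherian A (Dual.HD A C n) := isNoetherian_of_range_eq_ker
        ((homologyFunctor (ModuleCat.{u} A) n).map T.mor₂).hom
        (HomologySequence.δ T n (n + 1) rfl).hom hex
      infer_instance
    · rcases Finset.mem_insert.1 hy with rfl | hy
      · refine ⟨1 + 1, hkillStep y 1 1 ?_ ?_⟩
        · rw [pow_one, hcomp]
          exact comp_distTriang_mor_zero₁₂ _ hT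
        · rw [pow_one, hw]
          exact comp_distTriang_mor_zero₃₁ _ hT
      · obtain ⟨e, he⟩ := hkill y hy
        refine ⟨e + e, hkillStep y e e ?_ ?_⟩
        · rw [hcomp, he, zero_comp]
        · rw [hw, he, Functor.map_zero, comp_zero]
    · haveI : Subsingleton (Dual.HD A X 1) :=
        ModuleCat.isZero_iff_subsingleton.1 (isZero_of_isLE X 0 1 (by lia))
      haveI : Subsingleton (Dual.inD A A ⟶ X⟦(1 : ℤ)⟧) := (homAEquiv X 1).toEquiv.subsingleton
      obtain ⟨t', ht⟩ := Triangle.coyoneda_exact₃ T hT t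
        (@Subsingleton.elim (Dual.inD A A ⟶ X⟦(1 : ℤ)⟧) ‹_› _ _)
      obtain ⟨c, rfl⟩ := hu₁ t'
      refine ⟨c, ?_⟩
      rw [ht, ← Linear.smul_comp]
      rfl
    · rw [Finset.coe_insert, Ideal.span_insert, ← Linear.smul_comp]
      constructor
      · intro hc
        obtain ⟨t, ht⟩ := Triangle.coyoneda_exact₂ T hT (c • u₀) hc
        obtain ⟨d, rfl⟩ := hu₁ t
        have hd : (c - d * x) • u₀ = 0 := by
          have ht' : c • u₀ = (d • u₀) ≫ (x • 𝟙 X) := ht
          rw [sub_smul, ht', Linear.comp_smul, Category.comp_id, smul_smul, mul_comm x d, sub_self]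
        rw [show c = d * x + (c - d * x) by ring]
        exact Ideal.add_mem _ (Ideal.mem_sup_left (Ideal.mul_mem_left _ _
          (Ideal.mem_span_singleton_self x))) (Ideal.mem_sup_right ((hu₂ _).1 hd))
      · intro hc
        obtain ⟨y, hy, z, hz, rfl⟩ := Submodule.mem_sup.1 hc
        obtain ⟨d, rfl⟩ := Ideal.mem_span_singleton'.1 hy
        rw [add_smul, (hu₂ z).2 hz, add_zero]
        have hxd : (d * x) • u₀ = (d • u₀) ≫ (x • 𝟙 X) := by
          rw [Linear.comp_smul, Category.comp_id, smul_smul, mul_comm]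
        rw [hxd, Category.assoc]
        erw [comp_distTriang_mor_zero₁₂ _ hT]
        exact comp_zero

end Groth.PointwiseInjDim
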