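import Groth.Agent.PointwiseInjDim.Koszul

/-!
Pointwise finite injective dimension bounds `RHom(M, R)` for each finite module `M`.
-/

set_option autoImplicit false

universe u

open CategoryTheory CategoryTheory.Limits CategoryTheory.Pretriangulated DerivedCategory TensorProduct

attribute [local instance] HasDerivedCategory.standard

namespace Groth.PointwiseInjDim

open Groth.DualCore

variable {A : Type u} [CommRing A]

/-- injective amplitude bounds the degrees of morphisms out of modules -/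
lemma exists_bound_of_injDim {K : Dual.D A} (h : DRing.HasFiniteInjDim A K) :
    ∃ b : ℤ, ∀ (M : Type u) [AddCommGroup M] [Module A M] (i : ℤ), b < i →
      Subsingleton (Dual.inD A M ⟶ K⟦i⟧) := by
  obtain ⟨a, b, I, hI, hinj, ⟨e⟩⟩ := h
  haveI hge : I.IsStrictlyGE a := (CochainComplex.isStrictlyGE_iff I a).2 fun i hi => hI i (by lia)
  haveI hle : I.IsStrictlyLE b := (CochainComplex.isStrictlyLE_iff I b).2 fun i hi => hI i (by lia)
  refine ⟨b, fun M _ _ i hi => ?_⟩
  let r : InjRep K := { I := I, a := a, b := b, hGE := hge, hLE := hle, injective := hinj, iso := e }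
  haveI : Subsingleton
      ((CochainComplex.singleFunctor (ModuleCat.{u} A) 0 ⋙ Q).obj (ModuleCat.of A M) ⟶ K⟦i⟧) :=
    r.subsingleton_hom_Q
      ((CochainComplex.singleFunctor (ModuleCat.{u} A) 0).obj (ModuleCat.of A M)) 0 0 i
      (by simp only [r]; lia)
  exact subsingleton_hom_of_iso
    ((singleFunctorIsoCompQ (ModuleCat.{u} A) 0).app (ModuleCat.of A M)).symm _

variable [IsNoetherianRing A] (R : Dual.D A)

/-- generic vanishing -/
theorem exists_generic_bound (p : PrimeSpectrum A) (c : ℤ) [IsGE R c]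
    [DRing.HasLBaseChange (algebraMap A (Localization.AtPrime p.asIdeal))]
    (hpw : DRing.HasFiniteInjDim (Localization.AtPrime p.asIdeal)
      ((DRing.LBaseChange (algebraMap A (Localization.AtPrime p.asIdeal))).obj R))
    (M : Type u) [AddCommGroup M] [Module A M] [Module.Finite A M] :
    ∃ N : ℤ, ∀ i, N < i → ∀ φ : Dual.inD A M ⟶ R⟦i⟧, ∃ g, g ∉ p.asIdeal ∧ g • φ = 0 := by
  obtain ⟨b, hb⟩ := exists_bound_of_injDim hpw
  refine ⟨b, fun i hi φ => ?_⟩
  haveI : Module.Flat A (Localization.AtPrime p.asIdeal) :=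
    IsLocalization.flat _ p.asIdeal.primeCompl
  haveI := hb (Localization.AtPrime p.asIdeal ⊗[A] M) i hi
  haveI : Subsingleton (Dual.inD (Localization.AtPrime p.asIdeal)
      (Localization.AtPrime p.asIdeal ⊗[A] M) ⟶
      ((extD A (Localization.AtPrime p.asIdeal)).obj R)⟦i⟧) :=
    (Linear.homCongr (Localization.AtPrime p.asIdeal) (Iso.refl _)
      ((shiftFunctor _ i).mapIso ((LBaseChangeIso (A := A)
        (B := Localization.AtPrime p.asIdeal)).app R))).symm.toEquiv.subsingleton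
  haveI := (extHomInDEquiv (B := Localization.AtPrime p.asIdeal) M R c i).toEquiv.subsingleton
  haveI : IsLocalizedModule p.asIdeal.primeCompl (TensorProduct.mk A
      (Localization.AtPrime p.asIdeal) (Dual.inD A M ⟶ R⟦i⟧) 1) :=
    (isLocalizedModule_iff_isBaseChange p.asIdeal.primeCompl (Localization.AtPrime p.asIdeal) _).2
      (TensorProduct.isBaseChange A _ _)
  obtain ⟨⟨g, hg⟩, hgφ⟩ := (IsLocalizedModule.eq_zero_iff p.asIdeal.primeCompl
    (TensorProduct.mk A (Localization.AtPrime p.asIdeal) _ 1) (m := φ)).1 (Subsingleton.elim _ _)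
  exact ⟨g, hg, hgφ⟩

/-- finitely many finite modules are killed by one element outside `p` -/
lemma exists_common_killer (p : PrimeSpectrum A) (M : Type*) [AddCommGroup M] [Module A M]
    [Module.Finite A M] (h : ∀ x : M, ∃ g, g ∉ p.asIdeal ∧ g • x = 0) :
    ∃ g, g ∉ p.asIdeal ∧ ∀ x : M, g • x = 0 := by
  classical
  obtain ⟨s, hs⟩ := Module.Finite.fg_top (R := A) (M := M)
  choose g hg hg' using h
  refine ⟨∏ x ∈ s, g x, fun hmem => ?_, fun x => ?_⟩
  · obtain ⟨y, -, hy⟩ := (p.2.prod_mem_iff).1 hmem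
    exact hg y hy
  · have hx : x ∈ Submodule.span A (s : Set M) := hs ▸ Submodule.mem_top
    induction hx using Submodule.span_induction with
    | mem y hy =>
      obtain ⟨c, hc⟩ := Finset.dvd_prod_of_mem g (Finset.mem_coe.1 hy)
      rw [hc, mul_comm, mul_smul, hg', smul_zero]
    | zero => rw [smul_zero]
    | add y z _ _ hy hz => rw [smul_add, hy, hz, add_zero]
    | smul r y _ hy => rw [smul_comm, hy, smul_zero]

variable (hfin : ∀ i : ℤ, Module.Finite A (Dual.HD A R i))
  (hbdd : ∃ a b : ℤ, ∀ i : ℤ, (i < a ∨ b < i) → Subsingleton (Dual.HD A R i))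
  [∀ p : PrimeSpectrum A, DRing.HasLBaseChange (algebraMap A (Localization.AtPrime p.asIdeal))]
  (hpw : ∀ p : PrimeSpectrum A, DRing.HasFiniteInjDim (Localization.AtPrime p.asIdeal)
    ((DRing.LBaseChange (algebraMap A (Localization.AtPrime p.asIdeal))).obj R))

include hfin hbdd hpw

/-- one element outside `p` annihilates all high `Ext(A/p, R)` up to torsion -/
theorem exists_generic_tors (p : PrimeSpectrum A) :
    ∃ f, f ∉ p.asIdeal ∧ ∃ N : ℤ, ∀ i, N < i → Tors R f i (Dual.inD A (A ⧸ p.asIdeal)) := by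
  obtain ⟨a₀, b₀, hab⟩ := hbdd
  haveI := isGE_of_HD R a₀ fun i hi => hab i (Or.inl hi)
  obtain ⟨s, hs⟩ := (isNoetherianRing_iff_ideal_fg A).1 inferInstance p.asIdeal
  obtain ⟨X, a, ⟨Nv, hv⟩, hge, hle, hXfin, hkill, u₀, hu₁, hu₂⟩ :=
    exists_koszul (R := R) ⟨b₀, fun i hi => hab i (Or.inr hi)⟩ s
  obtain ⟨T, hT, hT₁, ⟨e₂⟩, e₁, ⟨e₃⟩⟩ := exists_top_triangle X 0 (-1) (by lia)
  haveI := hT₁
  -- the top cohomology is `A/p`
  let H₀ := Linear.homCongr A (Iso.refl (Dual.inD A A))
    ((shiftFunctorZero (Dual.D A) ℤ).app X).symm ≪≫ₗ homAEquiv X 0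
  let π : A →ₗ[A] Dual.HD A X 0 := H₀.toLinearMap ∘ₗ LinearMap.toSpanSingleton A _ u₀
  have hπ : Function.Surjective π := fun x => by
    obtain ⟨c, hc⟩ := hu₁ (H₀.symm x)
    exact ⟨c, by show H₀ (c • u₀) = x; rw [hc, LinearEquiv.apply_symm_apply]⟩
  have hker : LinearMap.ker π = p.asIdeal := by
    ext c
    rw [LinearMap.mem_ker, ← hs]
    show H₀ (c • u₀) = 0 ↔ _
    rw [LinearEquiv.map_eq_zero_iff]
    exact hu₂ c
  let eH : (A ⧸ p.asIdeal) ≃ₗ[A] Dual.HD A X 0 :=
    (Submodule.quotEquivOfEq _ _ hker).symm ≪≫ₗ π.quotKerEquivOfSurjective hπ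
  let e₃' : T.obj₃ ≅ Dual.inD A (A ⧸ p.asIdeal) :=
    e₃ ≪≫ (singleFunctor (ModuleCat.{u} A) 0).mapIso eH.toModuleIso.symm
  -- data of the lower part
  have hge₁ : IsGE T.obj₁ a := by
    rw [isGE_iff]
    intro i hi
    by_cases hn : i ≤ -1
    · exact (isZero_of_isGE X a i hi).of_iso (e₁ i hn).some
    · exact isZero_of_isLE T.obj₁ (-1) i (by lia)
  have hsub : ∀ n, ¬ n ≤ -1 → Subsingleton (Dual.HD A T.obj₁ n) := fun n hn =>
    ModuleCat.isZero_iff_subsingleton.1 (isZero_of_isLE T.obj₁ (-1) n (by lia))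
  obtain ⟨g₁, hg₁, k₁⟩ := exists_tors_bounded (R := R) p (s : Set A) hs a (-a).toNat T.obj₁ (-1)
    (by lia) hge₁ hT₁ (fun n => by
      by_cases hn : n ≤ -1
      · haveI := hXfin n
        exact Module.Finite.equiv (e₁ n hn).some.symm.toLinearEquiv
      · haveI := hsub n hn
        exact Module.Finite.of_finite) fun y hy => by
    obtain ⟨e, he⟩ := hkill y hy
    refine ⟨e, fun n x => ?_⟩
    by_cases hn : n ≤ -1
    · apply (e₁ n hn).some.toLinearEquiv.injective
      rw [map_smul, map_zero]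
      obtain ⟨φ, hφ⟩ := (homAEquiv X n).surjective ((e₁ n hn).some.toLinearEquiv x)
      refine (congrArg (y ^ e • ·) hφ.symm).trans ?_
      rw [← map_smul]
      have : y ^ e • φ = φ ≫ ((y ^ e • 𝟙 X)⟦n⟧') := by
        rw [Functor.map_smul, CategoryTheory.Functor.map_id, Linear.comp_smul]
        erw [Category.comp_id]
      rw [this, he, Functor.map_zero, comp_zero, map_zero]
    · haveI := hsub n hn
      exact Subsingleton.elim _ _
  -- generic vanishing in a window of degrees
  obtain ⟨Ng, hgen⟩ := exists_generic_bound R p a₀ (hpw p) (A ⧸ p.asIdeal)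
  let N := max Ng Nv
  have hwin : ∀ k : ℕ, ∃ g, g ∉ p.asIdeal ∧ ∀ i, N < i → i ≤ N + k →
      ∀ φ : Dual.inD A (A ⧸ p.asIdeal) ⟶ R⟦i⟧, g • φ = 0 := by
    intro k
    induction k with
    | zero => exact ⟨1, p.2.one_notMem, fun i hi hi' => absurd hi' (by simpa using hi)⟩
    | succ k ih =>
      obtain ⟨g, hg, hgk⟩ := ih
      haveI := finite_hom R a₀ hfin (N + k + 1) (A ⧸ p.asIdeal)
      obtain ⟨g', hg', hgk'⟩ := exists_common_killer p
        (Dual.inD A (A ⧸ p.asIdeal) ⟶ R⟦N + k + 1⟧)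
        (fun φ => hgen _ (by lia) φ)
      refine ⟨g * g', p.2.mul_notMem hg hg', fun i hi hi' φ => ?_⟩
      rcases lt_or_eq_of_le (show i ≤ N + k + 1 by push_cast at hi'; lia) with h | h
      · rw [mul_comm, mul_smul, hgk i hi (by lia) φ, smul_zero]
      · subst h
        rw [mul_smul, hgk' φ, smul_zero]
  obtain ⟨gw, hgw, hgwk⟩ := hwin ((-a).toNat + 1)
  refine ⟨g₁ * gw, p.2.mul_notMem hg₁ hgw, N, fun i hi => ?_⟩
  obtain ⟨m, rfl⟩ : ∃ m : ℕ, i = N + 1 + m := ⟨(i - N - 1).toNat, by lia⟩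
  induction m using Nat.strong_induction_on with
  | _ m ih =>
    by_cases hm : m ≤ (-a).toNat
    · intro φ
      exact ⟨1, by rw [pow_one, mul_smul, hgwk _ hi (by push_cast; lia) φ, smul_zero]⟩
    · haveI := hv (N + 1 + m) (by lia)
      haveI : Subsingleton (T.obj₂ ⟶ R⟦N + 1 + (m : ℤ)⟧) :=
        subsingleton_hom_of_iso e₂.symm _
      refine tors_of_iso e₃' (tors_third T hT (k₁ _ (dvd_mul_right _ _) _ fun n hn hn' => ?_))
      obtain ⟨m', hm'⟩ : ∃ m' : ℕ, N + 1 + (m : ℤ) - 1 + n = N + 1 + m' :=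
        ⟨((m : ℤ) - 1 + n).toNat, by lia⟩
      rw [hm']
      exact ih m' (by lia) (by lia)

/-- **pointwise finite injective dimension bounds `RHom(M, R)`** -/
theorem van_inD (M : Type u) [AddCommGroup M] [Module A M] [Module.Finite A M] :
    Van R (Dual.inD A M) := by
  have dev : ∀ (J : Ideal A), (∀ q : PrimeSpectrum A, J ≤ q.asIdeal →
      Van R (Dual.inD A (A ⧸ q.asIdeal))) → ∀ (M : Type u) [AddCommGroup M] [Module A M]
      [Module.Finite A M], (∀ y ∈ J, ∀ x : M, y • x = 0) → Van R (Dual.inD A M) := by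
    intro J hJ M _ _ _
    refine IsNoetherianRing.induction_on_isQuotientEquivQuotientPrime A ‹Module.Finite A M›
      (motive := fun N _ _ _ => (∀ y ∈ J, ∀ x : N, y • x = 0) → Van R (Dual.inD A N)) ?_ ?_ ?_
    · intro N _ _ _ _ _
      exact ⟨0, fun i _ => ⟨fun φ ψ => by
        rw [← map1_id R i φ, ← map1_id R i ψ,
          show (LinearMap.id : N →ₗ[A] N) = 0 from LinearMap.ext fun x => Subsingleton.elim _ _,
          map1_apply, map1_apply, inDmap_zero, zero_comp, zero_comp]⟩⟩
    · intro N _ _ _ q e hN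
      obtain ⟨b, hb⟩ := hJ ⟨q.1, q.2⟩ fun y hy => by
        have := congrArg e (hN y hy (e.symm 1))
        rw [map_smul, map_zero, e.apply_symm_apply, Algebra.smul_def, mul_one,
          Ideal.Quotient.algebraMap_eq, Ideal.Quotient.eq_zero_iff_mem] at this
        exact this
      exact ⟨b, fun i hi =>
        haveI := hb i hi
        subsingleton_hom_of_iso ((singleFunctor (ModuleCat.{u} A) 0).mapIso e.toModuleIso).symm _⟩
    · intro N₁ _ _ _ N₂ _ _ _ N₃ _ _ _ f g hf hg hfg h₁ h₃ hN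
      obtain ⟨b₁, hb₁⟩ := h₁ fun y hy x => hf (by rw [map_smul, map_zero, hN y hy])
      obtain ⟨b₃, hb₃⟩ := h₃ fun y hy x => by
        obtain ⟨z, rfl⟩ := hg x; rw [← map_smul, hN y hy, map_zero]
      refine ⟨max b₁ b₃, fun i hi => ?_⟩
      let T := (ses_shortExact f g hf hg hfg).singleTriangle
      haveI : Subsingleton (T.obj₁ ⟶ R⟦i⟧) := hb₁ i (by lia)
      haveI : Subsingleton (T.obj₃ ⟶ R⟦i⟧) := hb₃ i (by lia)
      exact subsingleton_hom_of_triangle T
        (ses_shortExact f g hf hg hfg).singleTriangle_distinguished R i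
  have prime : ∀ (I : Ideal A) (hI : I.IsPrime), Van R (Dual.inD A (A ⧸ I)) := by
    intro I
    induction I using WellFoundedGT.induction with
    | ind I ih =>
      intro hI
      obtain ⟨f, hf, N, hN⟩ := exists_generic_tors R hfin hbdd hpw ⟨I, hI⟩
      have hf' : f ∉ I := hf
      let J := I ⊔ Ideal.span {f}
      have hlt : I < J := lt_of_le_not_ge le_sup_left fun h =>
        hf' (h (Ideal.mem_sup_right (Ideal.mem_span_singleton_self f)))
      -- `0 → A/I → A/I → A/J → 0`
      let μ : (A ⧸ I) →ₗ[A] (A ⧸ I) := f • LinearMap.id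
      have hμ : Function.Injective μ := by
        rw [← LinearMap.ker_eq_bot, LinearMap.ker_eq_bot']
        intro x hx
        obtain ⟨y, rfl⟩ := Ideal.Quotient.mk_surjective x
        change Ideal.Quotient.mk I (f * y) = 0 at hx
        rw [Ideal.Quotient.eq_zero_iff_mem] at hx ⊢
        exact (hI.mem_or_mem hx).resolve_left hf'
      obtain ⟨b, hb⟩ := dev J (fun q hq => ih q.asIdeal (hlt.trans_le hq) q.2)
        ((A ⧸ I) ⧸ LinearMap.range μ) fun y hy x => by
          obtain ⟨x, rfl⟩ := Submodule.mkQ_surjective _ x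
          obtain ⟨z, hz, w, hw, rfl⟩ := Submodule.mem_sup.1 hy
          obtain ⟨d, rfl⟩ := Ideal.mem_span_singleton'.1 hw
          rw [← map_smul, Submodule.mkQ_apply, Submodule.Quotient.mk_eq_zero]
          refine ⟨d • x, ?_⟩
          have hz' : z • x = 0 := by
            obtain ⟨t, rfl⟩ := Ideal.Quotient.mk_surjective x
            show Ideal.Quotient.mk I (z * t) = 0
            exact Ideal.Quotient.eq_zero_iff_mem.2 (I.mul_mem_right t hz)
          show f • d • x = _
          rw [add_smul, hz', zero_add, smul_smul, mul_comm]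
      refine ⟨max N b, fun i hi => subsingleton_of_forall_eq 0 fun φ => ?_⟩
      haveI := hb i (by lia)
      have hinj : ∀ ψ : Dual.inD A (A ⧸ I) ⟶ R⟦i⟧, f • ψ = 0 → ψ = 0 := fun ψ hψ => by
        rw [← map1_smul_id R i f ψ] at hψ
        obtain ⟨v, rfl⟩ := (map1_exact_mid μ (LinearMap.range μ).mkQ hμ
          (Submodule.mkQ_surjective _) (LinearMap.exact_map_mkQ_range μ) R i ψ).1 hψ
        rw [Subsingleton.elim v 0, map_zero]
      obtain ⟨k, hk⟩ := hN i (by lia) φ
      induction k with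
      | zero => simpa using hk
      | succ k ihk => exact ihk (hinj _ (by rw [smul_smul, ← pow_succ']; exact hk))
  exact dev ⊥ (fun q _ => prime _ q.2) M fun y hy x => by rw [(Submodule.mem_bot A).1 hy, zero_smul]

end Groth.PointwiseInjDim
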