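import Groth.Agent.DualCore.Local
import Mathlib.RingTheory.Ideal.AssociatedPrime.Finiteness

/-!
Eventual vanishing and `f`-torsion of the groups `Hom(X, R⟦i⟧)`.
-/

set_option autoImplicit false

universe u

open CategoryTheory CategoryTheory.Limits CategoryTheory.Pretriangulated DerivedCategory

attribute [local instance] HasDerivedCategory.standard

namespace Groth.PointwiseInjDim

open Groth.DualCore

variable {A : Type u} [CommRing A] (R : Dual.D A)

/-- the groups `Hom(X, R⟦i⟧)` vanish for large `i` -/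
def Van (X : Dual.D A) : Prop := ∃ N : ℤ, ∀ i : ℤ, N < i → Subsingleton (X ⟶ R⟦i⟧)

/-- `Hom(X, R⟦i⟧)` is `f`-torsion -/
def Tors (f : A) (i : ℤ) (X : Dual.D A) : Prop := ∀ φ : X ⟶ R⟦i⟧, ∃ k : ℕ, f ^ k • φ = 0

variable {R}

lemma tors_of_triangle {f : A} {i : ℤ} (T : Triangle (Dual.D A)) (hT : T ∈ distTriang (Dual.D A))
    (h₁ : Tors R f i T.obj₁) (h₃ : Tors R f i T.obj₃) : Tors R f i T.obj₂ := fun φ => by
  obtain ⟨k, hk⟩ := h₁ (T.mor₁ ≫ φ)
  obtain ⟨ψ, hψ⟩ := (exact_mid T hT R i (f ^ k • φ)).1 (by rw [Linear.comp_smul, hk])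
  obtain ⟨l, hl⟩ := h₃ ψ
  exact ⟨l + k, by rw [pow_add, mul_smul, ← hψ, ← Linear.comp_smul, hl, comp_zero]⟩

lemma tors_third {f : A} {i : ℤ} (T : Triangle (Dual.D A)) (hT : T ∈ distTriang (Dual.D A))
    (h₁ : Tors R f (i - 1) T.obj₁) [Subsingleton (T.obj₂ ⟶ R⟦i⟧)] : Tors R f i T.obj₃ := fun φ => by
  obtain ⟨u, rfl⟩ :=
    (exact_right (R := A) T hT R (i - 1) i (by lia) φ).1 (Subsingleton.elim _ _)
  obtain ⟨k, hk⟩ := h₁ u
  exact ⟨k, by rw [← map_smul, hk, map_zero]⟩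

lemma tors_of_iso {f : A} {i : ℤ} {X Y : Dual.D A} (e : X ≅ Y) (h : Tors R f i X) :
    Tors R f i Y := fun φ => by
  obtain ⟨k, hk⟩ := h (e.hom ≫ φ)
  exact ⟨k, by rw [← cancel_epi e.hom, Linear.comp_smul, hk, comp_zero]⟩

lemma tors_single {f : A} {i n : ℤ} (M : Type u) [AddCommGroup M] [Module A M]
    (h : Tors R f (i + n) (Dual.inD A M)) :
    Tors R f i ((singleFunctor (ModuleCat.{u} A) n).obj (ModuleCat.of A M)) := fun φ => by
  obtain ⟨k, hk⟩ := h ((singleShiftIso M n).inv ≫ φ⟦n⟧' ≫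
    (shiftFunctorAdd' (Dual.D A) i n (i + n) rfl).inv.app R)
  refine ⟨k, (shiftFunctor (Dual.D A) n).map_injective ?_⟩
  rw [Functor.map_smul, Functor.map_zero, ← cancel_epi (singleShiftIso M n).inv,
    ← cancel_mono ((shiftFunctorAdd' (Dual.D A) i n (i + n) rfl).inv.app R), comp_zero, zero_comp,
    Linear.comp_smul, Linear.smul_comp, Category.assoc]
  exact hk

lemma tors_of_smul_eq_zero {f : A} {i : ℤ} (M : Type u) [AddCommGroup M] [Module A M]
    (h : ∀ x : M, f • x = 0) : Tors R f i (Dual.inD A M) := fun φ => by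
  refine ⟨1, ?_⟩
  rw [pow_one, ← map1_smul_id R i f φ, map1_apply,
    show f • (LinearMap.id : M →ₗ[A] M) = 0 from LinearMap.ext h, inDmap_zero, zero_comp]

variable [IsNoetherianRing A]

/-- Modules killed by powers of generators of `p` are generically built from `A/p`. -/
theorem exists_tors_le (p : PrimeSpectrum A) (S : Set A) (hS : Ideal.span S = p.asIdeal)
    (M : Type u) [AddCommGroup M] [Module A M] [Module.Finite A M]
    (hM : ∀ y ∈ S, ∃ e : ℕ, ∀ x : M, y ^ e • x = 0) :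
    ∃ g, g ∉ p.asIdeal ∧ ∀ f, g ∣ f → ∀ i, Tors R f i (Dual.inD A (A ⧸ p.asIdeal)) →
      Tors R f i (Dual.inD A M) := by
  revert hM
  refine IsNoetherianRing.induction_on_isQuotientEquivQuotientPrime A ‹Module.Finite A M›
    (motive := fun N _ _ _ => (∀ y ∈ S, ∃ e : ℕ, ∀ x : N, y ^ e • x = 0) →
      ∃ g, g ∉ p.asIdeal ∧ ∀ f, g ∣ f → ∀ i, Tors R f i (Dual.inD A (A ⧸ p.asIdeal)) →
        Tors R f i (Dual.inD A N)) ?_ ?_ ?_
  · intro N _ _ _ _ _
    exact ⟨1, p.2.one_notMem, fun f _ i _ => tors_of_smul_eq_zero N fun x => Subsingleton.elim _ _⟩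
  · intro N _ _ _ q e hN
    have hle : p.asIdeal ≤ q.1 := by
      rw [← hS, Ideal.span_le]
      intro y hy
      obtain ⟨k, hk⟩ := hN y hy
      refine q.2.mem_of_pow_mem k ?_
      have := congrArg e (hk (e.symm 1))
      rw [map_smul, map_zero, e.apply_symm_apply] at this
      rw [← Ideal.Quotient.eq_zero_iff_mem]
      rwa [Algebra.smul_def, mul_one, Ideal.Quotient.algebraMap_eq] at this
    by_cases hq : q.1 ≤ p.asIdeal
    · refine ⟨1, p.2.one_notMem, fun f _ i h => ?_⟩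
      exact tors_of_iso ((singleFunctor (ModuleCat.{u} A) 0).mapIso
        (e.trans (Submodule.quotEquivOfEq _ _ (le_antisymm hq hle))).toModuleIso).symm h
    · obtain ⟨g, hgq, hgp⟩ := SetLike.not_le_iff_exists.1 hq
      refine ⟨g, hgp, fun f ⟨c, hc⟩ i _ => tors_of_smul_eq_zero N fun x => e.injective ?_⟩
      rw [map_smul, map_zero]
      obtain ⟨y, hy⟩ := Ideal.Quotient.mk_surjective (e x)
      rw [← hy, Algebra.smul_def, Ideal.Quotient.algebraMap_eq, ← map_mul,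
        Ideal.Quotient.eq_zero_iff_mem]
      exact Ideal.mul_mem_right _ _ (hc ▸ Ideal.mul_mem_right _ _ hgq)
  · intro N₁ _ _ _ N₂ _ _ _ N₃ _ _ _ a b ha hb hab h₁ h₃ hN
    obtain ⟨g₁, hg₁, k₁⟩ := h₁ fun y hy => by
      obtain ⟨k, hk⟩ := hN y hy
      exact ⟨k, fun x => ha (by rw [map_smul, map_zero, hk])⟩
    obtain ⟨g₃, hg₃, k₃⟩ := h₃ fun y hy => by
      obtain ⟨k, hk⟩ := hN y hy
      exact ⟨k, fun x => by obtain ⟨z, rfl⟩ := hb x; rw [← map_smul, hk, map_zero]⟩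
    exact ⟨g₁ * g₃, p.2.mul_notMem hg₁ hg₃, fun f hf i h =>
      tors_of_triangle _ (ses_shortExact a b ha hb hab).singleTriangle_distinguished
        (k₁ f (dvd_of_mul_right_dvd hf) i h) (k₃ f (dvd_of_mul_left_dvd hf) i h)⟩

/-- Bounded objects killed by powers of generators of `p`. -/
theorem exists_tors_bounded (p : PrimeSpectrum A) (S : Set A) (hS : Ideal.span S = p.asIdeal)
    (a : ℤ) (k : ℕ) : ∀ (X : Dual.D A) (b : ℤ), b < a + k → IsGE X a → IsLE X b →
      (∀ n, Module.Finite A (Dual.HD A X n)) →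
      (∀ y ∈ S, ∃ e : ℕ, ∀ n, ∀ x : Dual.HD A X n, y ^ e • x = 0) →
      ∃ g, g ∉ p.asIdeal ∧ ∀ f, g ∣ f → ∀ i,
        (∀ n, a ≤ n → n ≤ b → Tors R f (i + n) (Dual.inD A (A ⧸ p.asIdeal))) → Tors R f i X := by
  induction k with
  | zero =>
    intro X b hb _ _ _ _
    exact ⟨1, p.2.one_notMem, fun f _ i _ φ =>
      ⟨0, (isZero_of_isGE_of_isLE X a b (by simpa using hb)).eq_of_src _ _⟩⟩
  | succ k ih =>
    intro X b hb hge hle hfin hkill
    rcases lt_or_ge b a with hlt | hab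
    · exact ⟨1, p.2.one_notMem, fun f _ i _ φ =>
        ⟨0, (isZero_of_isGE_of_isLE X a b hlt).eq_of_src _ _⟩⟩
    obtain ⟨T, hT, h1, ⟨e₂⟩, e₁, ⟨e₃⟩⟩ := exists_top_triangle X b (b - 1) (by lia)
    have hge₁ : IsGE T.obj₁ a := by
      rw [isGE_iff]
      exact fun i hi => (isZero_of_isGE X a i hi).of_iso (e₁ i (by lia)).some
    haveI := h1
    have hsub : ∀ n, ¬ n ≤ b - 1 → Subsingleton (Dual.HD A T.obj₁ n) := fun n hn =>
      ModuleCat.isZero_iff_subsingleton.1 (isZero_of_isLE T.obj₁ (b - 1) n (by lia))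
    obtain ⟨g₁, hg₁, k₁⟩ := ih T.obj₁ (b - 1) (by lia) hge₁ h1 (fun n => by
      by_cases hn : n ≤ b - 1
      · haveI := hfin n
        exact Module.Finite.equiv (e₁ n hn).some.symm.toLinearEquiv
      · haveI := hsub n hn
        exact Module.Finite.of_finite) fun y hy => by
      obtain ⟨e, he⟩ := hkill y hy
      refine ⟨e, fun n x => ?_⟩
      by_cases hn : n ≤ b - 1
      · apply (e₁ n hn).some.toLinearEquiv.injective
        rw [map_smul, map_zero]
        exact he n _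
      · haveI := hsub n hn
        exact Subsingleton.elim _ _
    haveI := hfin b
    obtain ⟨g₃, hg₃, k₃⟩ := exists_tors_le (R := R) p S hS (Dual.HD A X b) fun y hy => by
      obtain ⟨e, he⟩ := hkill y hy
      exact ⟨e, he b⟩
    refine ⟨g₁ * g₃, p.2.mul_notMem hg₁ hg₃, fun f hf i h => tors_of_iso e₂
      (tors_of_triangle T hT
        (k₁ f (dvd_of_mul_right_dvd hf) i fun n hn hn' => h n hn (by lia))
        (tors_of_iso e₃.symm (tors_single _ (k₃ f (dvd_of_mul_left_dvd hf) _ (h b hab le_rfl)))))⟩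

end Groth.PointwiseInjDim
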